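import Groth.Agent.H75.BaseChange.Ring
import Groth.Agent.Lib.Unram.BaseChangeNhd
import Groth.Agent.Lib.JacCrit.SmoothNhd
import Groth.Agent.Lib.Unram.AtPrime

/-!
Properties at a point descend along base changes (not nec. flat).
-/

set_option autoImplicit false

universe u

open CategoryTheory CategoryTheory.Limits AlgebraicGeometry

open scoped TensorProduct

attribute [local instance] Algebra.TensorProduct.rightAlgebra

namespace Groth.Agent.H75.BaseChange

open Groth.Agent.Lib.Unram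

theorem flat_localization {X Y : Scheme.{u}} (f : X ⟶ Y) {U : Y.Opens} (hU : IsAffineOpen U)
    {V : X.Opens} (hV : IsAffineOpen V) (hle : V ≤ f ⁻¹ᵁ U) (q : PrimeSpectrum Γ(X, V))
    (h : (f.stalkMap (hV.fromSpec q)).hom.Flat) :
    letI := (f.appLE U V hle).hom.toAlgebra
    Module.Flat Γ(Y, U) (Localization.AtPrime q.asIdeal) := by
  letI := (f.appLE U V hle).hom.toAlgebra
  obtain ⟨x, hx, rfl⟩ : ∃ (x : X) (hx : x ∈ V), hV.primeIdealOf ⟨x, hx⟩ = q := by
    have hxV : hV.fromSpec q ∈ V := by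
      rw [← SetLike.mem_coe, ← hV.range_fromSpec]; exact ⟨q, rfl⟩
    exact ⟨_, hxV, hV.fromSpec.isOpenEmbedding.injective (hV.fromSpec_primeIdealOf _)⟩
  rw [hV.fromSpec_primeIdealOf] at h
  let p := (hU.primeIdealOf ⟨f x, hle hx⟩).asIdeal
  have : (hV.primeIdealOf ⟨x, hx⟩).asIdeal.LiesOver p :=
    ⟨congr($(IsAffineOpen.comap_primeIdealOf_appLE U hU V hV hle hx).1).symm⟩
  let := Localization.AtPrime.algebraOfLiesOver p (hV.primeIdealOf ⟨x, hx⟩).asIdeal
  refine (Module.flat_iff_of_isLocalization (Localization.AtPrime p) p.primeCompl _).mp ?_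
  rw [← RingHom.flat_algebraMap_iff]
  exact (RingHom.Flat.respectsIso.arrow_mk_iso_iff
    (IsAffineOpen.arrowStalkMapIso f U hU V hV hle hx)).mp h

theorem exists_nhd_descend_gen (P : MorphismProperty Scheme.{u})
    {Q : ∀ {R S : Type u} [CommRing R] [CommRing S], (R →+* S) → Prop} [HasRingHomProperty P Q]
    [P.IsStableUnderBaseChange] [P.IsStableUnderComposition]
    (hP : ∀ {A B : Scheme.{u}} (i : A ⟶ B) [IsOpenImmersion i], P i)
    {X Y Y' : Scheme.{u}} (f : X ⟶ Y) [LocallyOfFiniteType f] (g : Y' ⟶ Y)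
    (w : ↑(pullback f g)) (F : Prop)
    (hF₁ : F → LocallyOfFinitePresentation f)
    (hF₂ : F → (f.stalkMap (pullback.fst f g w)).hom.Flat)
    (hF₃ : F → ∀ U' : Y'.Opens, (∃ y, y ∈ U') → IsField Γ(Y', U'))
    (hQ : ∀ (R S T : Type u) [CommRing R] [CommRing S] [CommRing T] [Algebra R S] [Algebra R T]
      [Algebra.FiniteType R S] (p : Ideal (T ⊗[R] S)) [p.IsPrime]
      (h : T ⊗[R] S), h ∉ p →
      (F → Algebra.FinitePresentation R S ∧
        Module.Flat R (Localization.AtPrime (p.comap (algebraMap S (T ⊗[R] S)))) ∧ IsField T) →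
      Q (algebraMap T (Localization.Away h)) →
      ∃ f ∉ p.comap (algebraMap S (T ⊗[R] S)), Q (algebraMap R (Localization.Away f)))
    (hw : ∃ W : (pullback f g).Opens, w ∈ W ∧ P (W.ι ≫ pullback.snd f g)) :
    ∃ O : X.Opens, pullback.fst f g w ∈ O ∧ P (O.ι ≫ f) := by
  obtain ⟨W, hwW, hW⟩ := hw
  obtain ⟨U, hU, hyU, -⟩ := exists_isAffineOpen_mem_and_subset
    (x := g (pullback.snd f g w)) (U := (⊤ : Y.Opens)) trivial
  obtain ⟨U', hU', hyU', hle'⟩ := exists_isAffineOpen_mem_and_subset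
    (x := pullback.snd f g w) (U := g ⁻¹ᵁ U) hyU
  have hfx : f (pullback.fst f g w) ∈ U := by
    rw [← Scheme.Hom.comp_apply, pullback.condition, Scheme.Hom.comp_apply]; exact hyU
  obtain ⟨V, hV, hxV, hle⟩ := exists_isAffineOpen_mem_and_subset
    (x := pullback.fst f g w) (U := f ⁻¹ᵁ U) hfx
  let φ : Γ(Y, U) ⟶ Γ(X, V) := f.appLE U V hle
  let ψ : Γ(Y, U) ⟶ Γ(Y', U') := g.appLE U U' hle'
  have hφ : φ.hom.FiniteType := f.finiteType_appLE hU hV hle
  let _ : Algebra Γ(Y, U) Γ(X, V) := φ.hom.toAlgebra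
  let _ : Algebra Γ(Y, U) Γ(Y', U') := ψ.hom.toAlgebra
  have : Algebra.FiniteType Γ(Y, U) Γ(X, V) := hφ
  have hx₀ : pullback.fst f g w ∈ V := hxV
  have h1 : Spec.map φ ≫ hU.fromSpec = hV.fromSpec ≫ f := hU.SpecMap_appLE_fromSpec f hV hle
  have h2 : Spec.map ψ ≫ hU.fromSpec = hU'.fromSpec ≫ g := hU.SpecMap_appLE_fromSpec g hU' hle'
  let T := Γ(Y', U') ⊗[Γ(Y, U)] Γ(X, V)
  let a : Spec (CommRingCat.of T) ⟶ Spec Γ(X, V) :=
    Spec.map (CommRingCat.ofHom (Algebra.TensorProduct.includeRight :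
      Γ(X, V) →ₐ[Γ(Y, U)] T).toRingHom)
  let b : Spec (CommRingCat.of T) ⟶ Spec Γ(Y', U') :=
    Spec.map (CommRingCat.ofHom (Algebra.TensorProduct.includeLeftRingHom : Γ(Y', U') →+* T))
  have hsq : IsPullback a b (Spec.map φ) (Spec.map ψ) := by
    refine (IsPullback.of_iso_pullback ⟨?_⟩ (pullbackSpecIso Γ(Y, U) Γ(Y', U') Γ(X, V)).symm
      (pullbackSpecIso_inv_fst Γ(Y, U) Γ(Y', U') Γ(X, V))
      (pullbackSpecIso_inv_snd Γ(Y, U) Γ(Y', U') Γ(X, V))).flip
    rw [← Spec.map_comp, ← Spec.map_comp]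
    congr 1
    ext r
    change (algebraMap Γ(Y, U) Γ(Y', U') r) ⊗ₜ[Γ(Y, U)] (1 : Γ(X, V)) =
      1 ⊗ₜ[Γ(Y, U)] (algebraMap Γ(Y, U) Γ(X, V) r)
    exact Algebra.TensorProduct.tmul_one_eq_one_tmul r
  let j : Spec (CommRingCat.of T) ⟶ pullback f g :=
    hsq.isoPullback.hom ≫ pullback.map _ _ f g hV.fromSpec hU'.fromSpec hU.fromSpec h1 h2
  have hjo : IsOpenImmersion j := inferInstance
  have hjfst : j ≫ pullback.fst f g = a ≫ hV.fromSpec := by
    simp only [j, pullback.map, Category.assoc, pullback.lift_fst]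
    rw [← Category.assoc, hsq.isoPullback_hom_fst]
  have hjsnd : j ≫ pullback.snd f g = b ≫ hU'.fromSpec := by
    simp only [j, pullback.map, Category.assoc, pullback.lift_snd]
    rw [← Category.assoc, hsq.isoPullback_hom_snd]
  have hwr : w ∈ Set.range
      (pullback.map _ _ f g hV.fromSpec hU'.fromSpec hU.fromSpec h1 h2) := by
    rw [Scheme.Pullback.range_map, hV.range_fromSpec, hU'.range_fromSpec]
    exact ⟨hxV, hyU'⟩
  obtain ⟨z, rfl⟩ := hwr
  obtain ⟨z, rfl⟩ : ∃ z', hsq.isoPullback.hom z' = z :=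
    ⟨hsq.isoPullback.inv z, by rw [← Scheme.Hom.comp_apply, Iso.inv_hom_id]; rfl⟩
  have hzW : z ∈ j ⁻¹ᵁ W := hwW
  obtain ⟨_, ⟨_, ⟨h, rfl⟩, rfl⟩, hzh, hsub⟩ :=
    PrimeSpectrum.isBasis_basic_opens.exists_subset_of_mem_open hzW (j ⁻¹ᵁ W).2
  let ι₁ : Spec (CommRingCat.of (Localization.Away h)) ⟶ Spec (CommRingCat.of T) :=
    Spec.map (CommRingCat.ofHom (algebraMap T (Localization.Away h)))
  have hι₁o : IsOpenImmersion ι₁ := IsOpenImmersion.of_isLocalization h
  have hr : Set.range (ι₁ ≫ j) ⊆ Set.range W.ι := by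
    rw [Scheme.Opens.range_ι]
    rintro _ ⟨t, rfl⟩
    exact hsub ((PrimeSpectrum.localization_away_comap_range (Localization.Away h) h).le ⟨t, rfl⟩)
  have hPl : P (ι₁ ≫ b) := by
    have : P ((ι₁ ≫ b) ≫ hU'.fromSpec) := by
      rw [Category.assoc, ← hjsnd, ← Category.assoc ι₁, ← IsOpenImmersion.lift_fac W.ι (ι₁ ≫ j) hr,
        Category.assoc]
      exact MorphismProperty.comp_mem P _ _ (hP _) hW
    exact MorphismProperty.of_isPullback
      (IsPullback.of_horiz_isIso_mono (fst := 𝟙 _) (snd := ι₁ ≫ b) (f := (ι₁ ≫ b) ≫ hU'.fromSpec)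
        (g := hU'.fromSpec) ⟨by rw [Category.id_comp]⟩) this
  have hQ' : Q (algebraMap Γ(Y', U') (Localization.Away h)) := by
    have := HasRingHomProperty.Spec_iff.mp (show P (Spec.map (CommRingCat.ofHom
      ((algebraMap T (Localization.Away h)).comp (algebraMap Γ(Y', U') T)))) by
        rw [CommRingCat.ofHom_comp, Spec.map_comp]; exact hPl)
    exact this
  have hpt : hV.fromSpec (a z) = pullback.fst f g (j z) := by
    rw [← Scheme.Hom.comp_apply, ← Scheme.Hom.comp_apply, hjfst]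
  obtain ⟨e, he, hQe⟩ := hQ Γ(Y, U) Γ(X, V) Γ(Y', U') z.asIdeal h hzh (fun hF => by
    refine ⟨?_, ?_, hF₃ hF U' ⟨_, hyU'⟩⟩
    · have := hF₁ hF
      exact f.finitePresentation_appLE hU hV hle
    · have hfl := hF₂ hF
      change (f.stalkMap (pullback.fst f g (j z))).hom.Flat at hfl
      rw [← hpt] at hfl
      exact flat_localization f hU hV hle (a z) hfl) hQ'
  let ι₂ : Spec (CommRingCat.of (Localization.Away e)) ⟶ X :=
    Spec.map (CommRingCat.ofHom (algebraMap Γ(X, V) (Localization.Away e))) ≫ hV.fromSpec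
  have : IsOpenImmersion (Spec.map (CommRingCat.ofHom (algebraMap Γ(X, V) (Localization.Away e)))) :=
    IsOpenImmersion.of_isLocalization e
  refine ⟨ι₂.opensRange, ?_, ?_⟩
  · have hz2 : a z ∈ Set.range (Spec.map (CommRingCat.ofHom
        (algebraMap Γ(X, V) (Localization.Away e)))) :=
      (PrimeSpectrum.localization_away_comap_range (Localization.Away e) e).ge he
    obtain ⟨t, ht⟩ := hz2
    refine ⟨t, ?_⟩
    rw [Scheme.Hom.comp_apply, ht]
    change hV.fromSpec (a z) = pullback.fst f g (j z)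
    rw [← Scheme.Hom.comp_apply, ← Scheme.Hom.comp_apply, hjfst]
  · rw [← ι₂.isoOpensRange_inv_comp, Category.assoc]
    refine MorphismProperty.comp_mem P _ _ (hP _) ?_
    rw [Category.assoc, ← h1, ← Category.assoc, ← Spec.map_comp]
    exact MorphismProperty.comp_mem P _ _ (HasRingHomProperty.Spec_iff.mpr hQe) (hP _)


theorem isField_sections {Y' : Scheme.{u}} [Subsingleton Y'] [IsReduced Y']
    (U' : Y'.Opens) (h : ∃ y, y ∈ U') : IsField Γ(Y', U') := by
  obtain ⟨y, hy⟩ := h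
  obtain ⟨W, hW, hyW, -⟩ := exists_isAffineOpen_mem_and_subset (X := Y') (x := y) (U := ⊤) trivial
  have hWU : W = U' := by
    ext z
    simp only [SetLike.mem_coe, Subsingleton.elim z y, hy, hyW]
  subst hWU
  haveI : IsAffine W := hW
  haveI : Subsingleton (PrimeSpectrum Γ(Y', W)) :=
    ⟨fun a b => hW.fromSpec.isOpenEmbedding.injective (Subsingleton.elim _ _)⟩
  haveI : Nontrivial Γ(Y', W) := by
    haveI : Nonempty (PrimeSpectrum Γ(Y', W)) := ⟨hW.primeIdealOf ⟨y, hy⟩⟩
    exact PrimeSpectrum.nonempty_iff_nontrivial.mp this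
  refine ⟨exists_pair_ne _, mul_comm, @fun x hx => ?_⟩
  suffices IsUnit x from ⟨_, this.choose_spec ▸ this.choose.mul_inv⟩
  by_contra hu
  obtain ⟨m, hm, hxm⟩ := exists_max_ideal_of_mem_nonunits hu
  refine hx (IsNilpotent.eq_zero (nilpotent_iff_mem_prime.mpr fun J hJ => ?_))
  have : (⟨J, hJ⟩ : PrimeSpectrum Γ(Y', W)) = ⟨m, hm.isPrime⟩ := Subsingleton.elim _ _
  rw [show J = m from congrArg PrimeSpectrum.asIdeal this]
  exact hxm

/-- Formally unramified at a point descends along any base change. -/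
theorem unramified_nhd_descend {X Y Y' : Scheme.{u}} (f : X ⟶ Y) [LocallyOfFiniteType f]
    (g : Y' ⟶ Y) (w : ↑(pullback f g))
    (hw : ∃ W : (pullback f g).Opens, w ∈ W ∧ FormallyUnramified (W.ι ≫ pullback.snd f g)) :
    ∃ O : X.Opens, pullback.fst f g w ∈ O ∧ FormallyUnramified (O.ι ≫ f) :=
  exists_nhd_descend_gen @FormallyUnramified (fun i _ => inferInstance) f g w False
    (fun h => h.elim) (fun h => h.elim) (fun h => h.elim)
    (fun R S T _ _ _ _ _ _ p _ h hh _ hQ => unramified_at_descend_ring R S T p h hh hQ) hw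

theorem smooth_nhd_descend_field {X Y Y' : Scheme.{u}} (f : X ⟶ Y) [LocallyOfFinitePresentation f]
    (g : Y' ⟶ Y) [Subsingleton Y'] [IsReduced Y'] (w : ↑(pullback f g))
    (hfl : (f.stalkMap (pullback.fst f g w)).hom.Flat)
    (hw : ∃ W : (pullback f g).Opens, w ∈ W ∧ Smooth (W.ι ≫ pullback.snd f g)) :
    ∃ O : X.Opens, pullback.fst f g w ∈ O ∧ Smooth (O.ι ≫ f) :=
  exists_nhd_descend_gen @Smooth (fun i _ => inferInstance) f g w True
    (fun _ => inferInstance) (fun _ => hfl) (fun _ U' => isField_sections U')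
    (fun R S T _ _ _ _ _ _ p _ h hh hF hQ => by
      obtain ⟨hfp, hflat, hfield⟩ := hF trivial
      letI := hfield.toField
      rw [RingHom.smooth_algebraMap] at hQ
      have hp : Algebra.IsSmoothAt T p :=
        (Algebra.basicOpen_subset_smoothLocus_iff_smooth (R := T) (f := h)).mpr hQ
          (show (⟨p, inferInstance⟩ : PrimeSpectrum _) ∈ PrimeSpectrum.basicOpen h from hh)
      have hq := smooth_at_descend_field R S T p hp
      obtain ⟨_, ⟨_, ⟨f, rfl⟩, rfl⟩, hf, hsub⟩ :=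
        PrimeSpectrum.isBasis_basic_opens.exists_subset_of_mem_open
          (show (⟨p.comap (algebraMap S (T ⊗[R] S)), Ideal.IsPrime.comap (hK := inferInstance) _⟩ :
            PrimeSpectrum S) ∈ Algebra.smoothLocus R S from hq)
          Algebra.isOpen_smoothLocus
      exact ⟨f, hf, RingHom.smooth_algebraMap.mpr
        (Algebra.basicOpen_subset_smoothLocus_iff_smooth.mp hsub)⟩) hw

end Groth.Agent.H75.BaseChange

namespace Groth.Agent.H75.BaseChange

open Groth.Agent.Lib.Unram Groth.Agent.Lib.JacCrit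

theorem nhd_baseChange (P : MorphismProperty Scheme.{u}) [P.IsStableUnderBaseChange]
    {X Y Y' : Scheme.{u}} (f : X ⟶ Y) (g : Y' ⟶ Y) (w : ↑(pullback f g))
    (h : ∃ U : X.Opens, pullback.fst f g w ∈ U ∧ P (U.ι ≫ f)) :
    ∃ W : (pullback f g).Opens, w ∈ W ∧ P (W.ι ≫ pullback.snd f g) := by
  obtain ⟨U, hwU, hU⟩ := h
  exact ⟨pullback.fst f g ⁻¹ᵁ U, hwU, MorphismProperty.of_isPullback
    ((isPullback_morphismRestrict (pullback.fst f g) U).paste_vert (IsPullback.of_hasPullback f g)) hU⟩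

theorem smooth_nhd_descend_of_flat_stalk {X Y Y' : Scheme.{u}} (f : X ⟶ Y)
    [LocallyOfFinitePresentation f] (g : Y' ⟶ Y) (w : ↑(pullback f g))
    (hfl : (f.stalkMap (pullback.fst f g w)).hom.Flat)
    (hw : ∃ W : (pullback f g).Opens, w ∈ W ∧ Smooth (W.ι ≫ pullback.snd f g)) :
    ∃ O : X.Opens, pullback.fst f g w ∈ O ∧ Smooth (O.ι ≫ f) := by
  obtain ⟨W, hwW, hW⟩ := hw
  let h := Y'.fromSpecResidueField (pullback.snd f g w)
  obtain ⟨z, hz, -⟩ := Scheme.exists_preimage_of_isPullback (SplitNhd.isPullback_refineMap f g h) w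
    (IsLocalRing.closedPoint _) (Scheme.fromSpecResidueField_apply _ _).symm
  have hz' : pullback.fst f (h ≫ g) z = pullback.fst f g w := by
    rw [← SplitNhd.fst_refineMap, hz]
  have key := smooth_nhd_descend_field f (h ≫ g) z (by rw [hz']; exact hfl)
    ⟨SplitNhd.refineMap f g h ⁻¹ᵁ W, by
      change SplitNhd.refineMap f g h z ∈ W
      rwa [hz], MorphismProperty.of_isPullback (SplitNhd.isPullback_restrict f g h W) hW⟩
  rwa [hz'] at key

theorem mem_smoothLocus_snd_iff {X Y Y' : Scheme.{u}} (f : X ⟶ Y)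
    [LocallyOfFinitePresentation f] (g : Y' ⟶ Y) (w : ↑(pullback f g))
    (hfl : (f.stalkMap (pullback.fst f g w)).hom.Flat ∨ (g.stalkMap (pullback.snd f g w)).hom.Flat) :
    w ∈ (pullback.snd f g).smoothLocus ↔ pullback.fst f g w ∈ f.smoothLocus := by
  rw [← SmoothNhd.exists_smooth_nhd_iff, ← SmoothNhd.exists_smooth_nhd_iff]
  refine ⟨fun hw => ?_, fun hw => nhd_baseChange @Smooth f g w hw⟩
  rcases hfl with hf | hg
  · exact smooth_nhd_descend_of_flat_stalk f g w hf hw
  · exact BaseChangeNhd.exists_nhd_descend @Smooth (fun i _ => inferInstance)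
      BaseChangeNhd.smooth_at_descend_ring f g w hg hw

end Groth.Agent.H75.BaseChange

namespace Groth.Agent.H75.BaseChange

/-- Formally unramified if so on all fibres over field-valued points. -/
theorem formallyUnramified_of_field_points {X Y : Scheme.{u}} (f : X ⟶ Y) [LocallyOfFiniteType f]
    (h : ∀ x : X, ∃ (K : Scheme.{u}) (g : K ⟶ Y) (w : ↑(pullback f g)),
      pullback.fst f g w = x ∧ FormallyUnramified (pullback.snd f g)) :
    FormallyUnramified f := by
  have key : ∀ x : X, ∃ O : X.Opens, x ∈ O ∧ FormallyUnramified (O.ι ≫ f) := fun x => by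
    obtain ⟨K, g, w, rfl, hw⟩ := h x
    exact unramified_nhd_descend f g w ⟨⊤, trivial,
      MorphismProperty.comp_mem @FormallyUnramified _ _ inferInstance hw⟩
  choose O hxO hO using key
  exact (IsZariskiLocalAtSource.iff_of_openCover (P := @FormallyUnramified)
    (X.openCoverOfIsOpenCover O (.mk (eq_top_iff.mpr fun x _ =>
      TopologicalSpace.Opens.mem_iSup.mpr ⟨x, hxO x⟩)))).mpr hO

end Groth.Agent.H75.BaseChange
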