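import Groth.Agent.S0658
import Groth.Agent.S4997
import Mathlib.AlgebraicGeometry.Morphisms.Smooth
import Mathlib.FieldTheory.IsAlgClosed.AlgebraicClosure
import Mathlib.AlgebraicGeometry.Noetherian

/-!
Unramified schemes over fields.
-/

set_option autoImplicit false

universe u

open CategoryTheory CategoryTheory.Limits AlgebraicGeometry TopologicalSpace

namespace Groth.Agent.H75.BaseChange

variable {k : Type u} [Field k] {X : Scheme.{u}} (p : X ⟶ Spec (CommRingCat.of k))

theorem lfp_of_lft [LocallyOfFiniteType p] : LocallyOfFinitePresentation p :=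
  HasRingHomProperty.iff_appLE.mpr fun U V e => by
    haveI : IsNoetherianRing Γ(Spec (CommRingCat.of k), U.1) :=
      IsLocallyNoetherian.component_noetherian U
    exact RingHom.FinitePresentation.of_finiteType.mp
      (HasRingHomProperty.appLE @LocallyOfFiniteType p inferInstance U V e)

theorem isField_top : IsField Γ(Spec (CommRingCat.of k), ⊤) :=
  (Scheme.ΓSpecIso (CommRingCat.of k)).commRingCatIsoToRingEquiv.toMulEquiv.isField (Field.toIsField k)

theorem flat_over_field : Flat p := by
  refine HasRingHomProperty.iff_appLE.mpr fun V U e => ?_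
  by_cases hV : V.1 = ⊥
  · haveI : Subsingleton Γ(Spec (CommRingCat.of k), V.1) := by rw [hV]; infer_instance
    haveI : Subsingleton Γ(X, U.1) := (p.appLE V.1 U.1 e).hom.codomain_trivial
    algebraize [(p.appLE V.1 U.1 e).hom]
    exact RingHom.flat_algebraMap_iff.mpr inferInstance
  · have hV' : V.1 = ⊤ := by
      obtain ⟨y, hy⟩ := (Opens.ne_bot_iff_nonempty _).mp hV
      exact TopologicalSpace.Opens.ext (Set.eq_univ_of_forall fun z => Subsingleton.elim y z ▸ hy)
    let F : Field Γ(Spec (CommRingCat.of k), V.1) := (hV' ▸ isField_top (k := k)).toField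
    algebraize [(p.appLE V.1 U.1 e).hom]
    exact RingHom.flat_algebraMap_iff.mpr inferInstance

theorem etale_of_formallyUnramified [FormallyUnramified p] [LocallyOfFiniteType p] : Etale p := by
  have := lfp_of_lft p
  have := flat_over_field p
  exact Etale.of_formallyUnramified_of_flat p

theorem isReduced_of_etale [Etale p] : IsReduced X := by
  haveI : ∀ U : X.affineOpens, IsReduced (U.1 : Scheme.{u}) := fun U => by
    haveI : IsAffine (U.1 : Scheme.{u}) := U.2
    have h := HasRingHomProperty.appLE @Etale p inferInstance ⟨⊤, isAffineOpen_top _⟩ U le_top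
    let F : Field Γ(Spec (CommRingCat.of k), ⊤) := (isField_top (k := k)).toField
    algebraize [(p.appLE ⊤ U.1 le_top).hom]
    haveI := Algebra.FormallyUnramified.isReduced_of_field Γ(Spec (CommRingCat.of k), ⊤) Γ(X, U.1)
    haveI : _root_.IsReduced Γ((U.1 : Scheme.{u}), ⊤) :=
      isReduced_of_injective U.1.topIso.hom.hom
        U.1.topIso.commRingCatIsoToRingEquiv.injective
    exact isReduced_of_isAffine_isReduced _
  let 𝒰 := X.openCoverOfIsOpenCover (fun U : X.affineOpens => U.1) (.mk (iSup_affineOpens_eq_top X))
  haveI : ∀ i, IsReduced (𝒰.X i) := this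
  exact IsReduced.of_openCover _ 𝒰

theorem etale_of_isReduced_of_discrete [IsAlgClosed k] [LocallyOfFiniteType p] [IsReduced X]
    [DiscreteTopology X] : Etale p := by
  have := lfp_of_lft p
  refine (Groth.Agent.S4997.result p).mpr ⟨?_, ?_⟩
  · rw [← Scheme.Hom.smoothLocus_eq_top_iff]
    refine TopologicalSpace.Opens.ext ?_
    rw [TopologicalSpace.Opens.coe_top, ← (isClosed_discrete (p.smoothLocus : Set X)).closure_eq]
    exact p.dense_smoothLocus_of_perfectField.closure_eq
  · exact locallyQuasiFinite_iff_isDiscrete_preimage_singleton.mpr fun x =>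
      ⟨inferInstanceAs (DiscreteTopology (p ⁻¹' {x} : Set X))⟩

end Groth.Agent.H75.BaseChange
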