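import Groth.Agent.Lib.Unram.BaseChangeDescend
import Groth.Agent.Lib.JacCrit.Fiber
import Mathlib.RingTheory.LocalRing.Module
import Groth.Agent.Lib.Unram.BaseChangeNhdUnram

/-!
Unramified, and flat + smooth at a prime descend along arbitrary base changes.
-/

set_option autoImplicit false

universe u

open scoped TensorProduct

attribute [local instance] Algebra.TensorProduct.rightAlgebra

namespace Groth.Agent.H75.BaseChange

theorem mem_support_baseChange (S S' M M' : Type u) [CommRing S] [CommRing S'] [Algebra S S']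
    [AddCommGroup M] [Module S M] [Module.Finite S M] [AddCommGroup M'] [Module S' M']
    (e : S' ⊗[S] M ≃ₗ[S'] M') (P : Ideal S') [P.IsPrime] (q : Ideal S) [q.IsPrime] [P.LiesOver q]
    (h : (⟨q, inferInstance⟩ : PrimeSpectrum S) ∈ Module.support S M) :
    (⟨P, inferInstance⟩ : PrimeSpectrum S') ∈ Module.support S' M' := by
  rw [Module.mem_support_iff_nontrivial_residueField_tensorProduct] at h
  haveI : Module.Finite S' M' := Module.Finite.equiv e
  rw [Module.mem_support_iff_nontrivial_residueField_tensorProduct]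
  let k := q.ResidueField
  let L := P.ResidueField
  let φ : k →ₐ[S] L := Ideal.ResidueField.mapₐ q P (Algebra.ofId S S') (P.over_def q)
  letI := φ.toRingHom.toAlgebra
  haveI : IsScalarTower S k L := .of_algebraMap_eq fun a => (φ.commutes a).symm
  haveI : Nontrivial (k ⊗[S] M) := h
  haveI : Nontrivial (L ⊗[k] (k ⊗[S] M)) := inferInstance
  exact ((TensorProduct.AlgebraTensorModule.congr (LinearEquiv.refl S' L) e.symm).trans
    (TensorProduct.AlgebraTensorModule.cancelBaseChange S S' S' L M)).toEquiv.nontrivial_congr.mpr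
      ((TensorProduct.AlgebraTensorModule.cancelBaseChange S k k L M).toEquiv.nontrivial_congr.mp
        inferInstance)

variable {R S T : Type u} [CommRing R] [CommRing S] [Algebra R S] [CommRing T] [Algebra R T]

/-- Unramified at a prime descends along an arbitrary base change. -/
theorem isUnramifiedAt [Algebra.EssFiniteType R S] (P : Ideal (T ⊗[R] S)) [P.IsPrime] (q : Ideal S)
    [q.IsPrime] [P.LiesOver q] (h : Algebra.IsUnramifiedAt T P) : Algebra.IsUnramifiedAt R q := by
  have h' : (⟨P, inferInstance⟩ : PrimeSpectrum (T ⊗[R] S)) ∈ Algebra.unramifiedLocus T (T ⊗[R] S) := h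
  rw [Algebra.unramifiedLocus_eq_compl_support] at h'
  change (⟨q, inferInstance⟩ : PrimeSpectrum S) ∈ Algebra.unramifiedLocus R S
  rw [Algebra.unramifiedLocus_eq_compl_support]
  exact fun hq => h' (mem_support_baseChange S (T ⊗[R] S) _ _
    (KaehlerDifferential.tensorKaehlerEquiv R T S (T ⊗[R] S)) P q hq)

theorem unramified_at_descend_ring (R S T : Type u) [CommRing R] [CommRing S] [CommRing T]
    [Algebra R S] [Algebra R T] [Algebra.FiniteType R S]
    (p : Ideal (T ⊗[R] S)) [p.IsPrime] (h : T ⊗[R] S) (hh : h ∉ p)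
    (hQ : (algebraMap T (Localization.Away h)).FormallyUnramified) :
    ∃ f ∉ p.comap (algebraMap S (T ⊗[R] S)),
      (algebraMap R (Localization.Away f)).FormallyUnramified := by
  rw [RingHom.formallyUnramified_algebraMap] at hQ
  have hp : Algebra.IsUnramifiedAt T p :=
    (Algebra.basicOpen_subset_unramifiedLocus_iff (R := T) (f := h)).mpr hQ
      (show (⟨p, inferInstance⟩ : PrimeSpectrum _) ∈ PrimeSpectrum.basicOpen h from hh)
  have : p.LiesOver (p.comap (algebraMap S (T ⊗[R] S))) := ⟨rfl⟩
  have := isUnramifiedAt p (p.comap (algebraMap S (T ⊗[R] S))) hp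
  obtain ⟨f, hf, hf'⟩ := Algebra.exists_formallyUnramified_of_isUnramifiedAt (R := R)
    (p.comap (algebraMap S (T ⊗[R] S)))
  exact ⟨f, hf, RingHom.formallyUnramified_algebraMap.mpr hf'⟩

/-- Flat and smooth at a prime over a field-valued point. -/
theorem smooth_at_descend_field (R S T : Type u) [CommRing R] [CommRing S] [Field T]
    [Algebra R S] [Algebra R T] [Algebra.FinitePresentation R S]
    (P : Ideal (T ⊗[R] S)) [P.IsPrime]
    [Module.Flat R (Localization.AtPrime (P.comap (algebraMap S (T ⊗[R] S))))]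
    (hP : Algebra.IsSmoothAt T P) :
    Algebra.IsSmoothAt R (P.comap (algebraMap S (T ⊗[R] S))) := by
  let q := P.comap (algebraMap S (T ⊗[R] S))
  let p : Ideal R := RingHom.ker (algebraMap R T)
  haveI : p.IsPrime := RingHom.ker_isPrime _
  haveI : q.LiesOver p := ⟨by
    ext r
    have h1 : algebraMap S (T ⊗[R] S) (algebraMap R S r) = algebraMap T (T ⊗[R] S) (algebraMap R T r) := by
      rw [← IsScalarTower.algebraMap_apply R S, ← IsScalarTower.algebraMap_apply R T]
    simp only [q, Ideal.under, Ideal.mem_comap, p, RingHom.mem_ker, h1]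
    constructor
    · intro hr
      rw [hr, map_zero]
      exact zero_mem _
    · intro hr
      by_contra hne
      exact Ideal.IsPrime.ne_top ‹_› (Ideal.eq_top_of_isUnit_mem _ hr ((IsUnit.mk0 _ hne).map _))⟩
  let κ := p.ResidueField
  let ι : κ →ₐ[R] T := Ideal.ResidueField.liftₐ p (Algebra.ofId R T) le_rfl
    (fun x hx => IsUnit.mk0 _ fun h => hx h)
  letI := ι.toRingHom.toAlgebra
  haveI : IsScalarTower R κ T := .of_algebraMap_eq fun a => (ι.commutes a).symm
  let e : T ⊗[κ] (κ ⊗[R] S) ≃ₐ[T] T ⊗[R] S := Algebra.TensorProduct.cancelBaseChange R κ T T S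
  let P' := P.comap e.toRingHom
  have hP' : Algebra.IsSmoothAt T P' := by
    letI := (Localization.localRingHom P' P e.toRingHom rfl).toAlgebra
    let E : Localization.AtPrime P' ≃ₐ[T] Localization.AtPrime P :=
      IsLocalization.algEquivOfAlgEquiv (M := P'.primeCompl) (T := P.primeCompl) _ _ e (by
        ext x
        constructor
        · rintro ⟨y, hy, rfl⟩
          exact hy
        · intro hx
          exact ⟨e.symm x, fun hc => hx (by simpa [P'] using hc), e.apply_symm_apply x⟩)
    exact Algebra.FormallySmooth.of_equiv E.symm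
  let qF := P'.comap (algebraMap (κ ⊗[R] S) (T ⊗[κ] (κ ⊗[R] S)))
  haveI : P'.LiesOver qF := ⟨rfl⟩
  have hF : Algebra.IsSmoothAt κ qF :=
    Groth.Agent.Lib.Unram.BaseChangeDescend.isSmoothAt (R := κ) (S := κ ⊗[R] S) (T := T) P' qF hP'
  letI := Localization.AtPrime.algebraOfLiesOver p q
  haveI : Module.Flat (Localization.AtPrime p) (Localization.AtPrime q) :=
    (Module.flat_iff_of_isLocalization (Localization.AtPrime p) p.primeCompl _).mpr ‹_›
  refine Groth.Agent.Lib.JacCrit.Fiber.isSmoothAt p q qF ?_ hF
  ext s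
  simp [qF, P', q, e, RingHom.algebraMap_toAlgebra]

end Groth.Agent.H75.BaseChange
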